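import Cfsg.Agent.H826.Rg.Lin
import Cfsg.Agent.H72.D2.Vs
import Cfsg.Agent.H440.Bs.FrmL
import Cfsg.Agent.H847.Bs.Defs2

/-!
# S3691, residual case F-D+2, common part 11.3, step (i) (helper50)

`common_i` : `C_V(A) = ⟨v⟩ + W`, `W` totally singular of dimension `m - 1`, perpendicular to `v` and invariant under `y`.
-/

set_option autoImplicit false
set_option linter.unusedSectionVars false

namespace Cfsg.Agent.H50.D2

open QuadraticMap Module Cfsg.Agent.H386.Rg
open Cfsg.Agent.H847.Bs (frmQ)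
open Cfsg.Agent.H440.Bs (perp mem_perp finrank_perp)
open Cfsg.Agent.H72.D2 (Nd exists_aniso_nd)
open Cfsg.Agent.H826.Rg (fxv fxG mem_fxv mem_fxG dvd_dim exists_fixed)

universe u v

variable {F : Type u} {V : Type v} [Field F] [AddCommGroup V] [Module F V] {Q : QuadraticForm F V}

theorem polar_iso {k : V ≃ₗ[F] V} (hk : ∀ v, Q (k v) = Q v) (x y : V) : polar Q (k x) (k y) = polar Q x y := by
  unfold polar
  rw [← map_add, hk, hk, hk]

variable [Finite F] [FiniteDimensional F V]

/-- a totally isotropic `y`-space whose invariant subspaces have dimension `0` or `m - 1` is totally singular -/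
theorem sing_of_polar {n : ℕ} (hn : 2 ≤ n) {y : V ≃ₗ[F] V} (hyQ : ∀ v, Q (y v) = Q v) {W : Submodule F V} (hWd : finrank F W = n)
    (hWy : ∀ w ∈ W, y w ∈ W) (hdvd : ∀ S ≤ W, (∀ s ∈ S, y s ∈ S) → n ∣ finrank F S)
    (hpol : ∀ w ∈ W, ∀ w' ∈ W, polar Q w w' = 0) : ∀ w ∈ W, Q w = 0 := by
  by_cases h2 : (2 : F) = 0
  · let K0 : Submodule F V :=
      { carrier := {w | w ∈ W ∧ Q w = 0}
        zero_mem' := ⟨W.zero_mem, QuadraticMap.map_zero Q⟩
        add_mem' := fun {a b} ha hb => ⟨W.add_mem ha.1 hb.1, by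
          rw [QuadraticMap.map_add Q, ha.2, hb.2, hpol a ha.1 b hb.1, add_zero, add_zero]⟩
        smul_mem' := fun c a ha => ⟨W.smul_mem c ha.1, by rw [QuadraticMap.map_smul, ha.2, smul_zero]⟩ }
    have hK0W : K0 ≤ W := fun w hw => hw.1
    have hne : ∃ w ∈ K0, w ≠ 0 := by
      have h1 : 1 < finrank F W := by omega
      obtain ⟨x, hx⟩ : ∃ x : W, x ≠ 0 := by
        have : Nontrivial W := Module.nontrivial_of_finrank_pos (R := F) (by omega)
        exact exists_ne 0
      obtain ⟨z, hz⟩ := exists_linearIndependent_pair_of_one_lt_finrank h1 hx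
      rw [LinearIndependent.pair_iff] at hz
      by_cases hQz : Q (x : V) = 0
      · exact ⟨x, ⟨x.2, hQz⟩, fun h => hx (Subtype.ext h)⟩
      · have hch : ringChar F = 2 := by
          have h3 : ringChar F ∣ 2 := ringChar.dvd (by exact_mod_cast h2)
          rcases (Nat.dvd_prime Nat.prime_two).1 h3 with h4 | h4
          · exact absurd h4 (CharP.ringChar_ne_one)
          · exact h4
        obtain ⟨l, hl⟩ := FiniteField.isSquare_of_char_two hch (Q (z : V) / Q (x : V))
        refine ⟨(z : V) + l • (x : V), ⟨W.add_mem z.2 (W.smul_mem _ x.2), ?_⟩, ?_⟩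
        · rw [QuadraticMap.map_add Q, QuadraticMap.map_smul, polar_smul_right, hpol _ z.2 _ x.2, smul_zero, add_zero,
            smul_eq_mul, ← hl, div_mul_cancel₀ _ hQz]
          linear_combination (Q (z : V)) * h2
        · intro h3
          have h4 := hz l 1 (Subtype.ext (by
            show l • (x : V) + (1 : F) • (z : V) = 0
            rw [one_smul, add_comm]
            exact h3))
          exact one_ne_zero h4.2
    have h1 := hdvd K0 hK0W fun s hs => ⟨hWy s hs.1, by rw [hyQ]; exact hs.2⟩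
    have h3 : 0 < finrank F K0 := by
      obtain ⟨w, hw, hw0⟩ := hne
      rw [Module.finrank_pos_iff]
      exact ⟨⟨⟨w, hw⟩, 0, fun h => hw0 (congrArg Subtype.val h)⟩⟩
    have h4 := Nat.le_of_dvd h3 h1
    have h5 : K0 = W := Submodule.eq_of_le_of_finrank_le hK0W (by omega)
    intro w hw
    rw [← h5] at hw
    exact hw.2
  · intro w hw
    have h1 := hpol w hw w hw
    rw [polar_self, nsmul_eq_mul] at h1
    exact (mul_eq_zero.1 h1).resolve_left (by exact_mod_cast h2)

/-- a `p`-group fixing the nonsingular vector `v` fixes another vector outside `⟨v⟩` -/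
theorem exists_other {p f : ℕ} (hp : p.Prime) (hf : 0 < f) (hF : Nat.card F = p ^ f)
    (hnd : ∀ v : V, (∀ w, polar Q v w = 0) → v = 0) (hdim : 4 ≤ finrank F V) {v : V} (hv : Q v ≠ 0)
    {A : Subgroup (V ≃ₗ[F] V)} (hA : IsPGroup p A) (hAQ : ∀ a ∈ A, ∀ x, Q (a x) = Q x) (hAv : ∀ a ∈ A, a v = v) :
    ∃ x, x ∈ fxG A ∧ x ∉ Submodule.span F {v} := by
  classical
  have := Fact.mk hp
  have hfV : Finite V := Module.finite_of_finite F
  have hv0 : v ≠ 0 := fun h => hv (by rw [h, QuadraticMap.map_zero])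
  let P : Submodule F V := perp (frmQ Q) (Submodule.span F {v})
  have hPm : ∀ x, x ∈ P ↔ polar Q x v = 0 := by
    intro x
    constructor
    · intro hx
      exact hx v (Submodule.mem_span_singleton_self v)
    · intro hx w hw
      obtain ⟨c, rfl⟩ := Submodule.mem_span_singleton.1 hw
      show polar Q x (c • v) = 0
      rw [polar_smul_right, hx, smul_zero]
  have hPA : ∀ a ∈ A, ∀ x ∈ P, a x ∈ P := by
    intro a ha x hx
    rw [hPm] at hx ⊢
    have h1 := polar_iso (hAQ a ha) x v
    rw [hAv a ha] at h1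
    rw [h1, hx]
  have hPd := finrank_perp (frmQ Q) hnd (Submodule.span F {v})
  rw [finrank_span_singleton hv0] at hPd
  by_cases h2 : (2 : F) = 0
  · have hch : ringChar F = 2 := by
      have h3 : ringChar F ∣ 2 := ringChar.dvd (by exact_mod_cast h2)
      rcases (Nat.dvd_prime Nat.prime_two).1 h3 with h4 | h4
      · exact absurd h4 (CharP.ringChar_ne_one)
      · exact h4
    have hp2 : p ∣ Nat.card {x : V // x ∈ P ∧ Q x = 0} := by
      have hvP : v ∈ P := by
        rw [hPm, polar_self, nsmul_eq_mul]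
        have : ((2 : ℕ) : F) = 0 := by exact_mod_cast h2
        rw [this, zero_mul]
      have hbij : Function.Bijective (fun z : {x : V // x ∈ P ∧ Q x = 0} × F =>
          (⟨z.1.1 + z.2 • v, P.add_mem z.1.2.1 (P.smul_mem _ hvP)⟩ : P)) := by
        have hQ : ∀ x ∈ P, ∀ c : F, Q (x + c • v) = Q x + c * c * Q v := by
          intro x hx c
          rw [QuadraticMap.map_add Q, QuadraticMap.map_smul, polar_smul_right, (hPm x).1 hx, smul_zero, add_zero, smul_eq_mul]
        constructor
        · rintro ⟨⟨x, hx, hx0⟩, c⟩ ⟨⟨x', hx', hx0'⟩, c'⟩ hh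
          have h3 : x + c • v = x' + c' • v := congrArg Subtype.val hh
          have h4 : c * c * Q v = c' * c' * Q v := by
            have h5 := congrArg Q h3
            rwa [hQ x hx, hQ x' hx', hx0, hx0', zero_add, zero_add] at h5
          have h5 : c * c = c' * c' := mul_right_cancel₀ hv h4
          have h6 : c = c' := by
            have h7 : (c - c') * (c - c') = 0 := by linear_combination h5 - (c * c' - c' * c') * h2
            exact sub_eq_zero.1 (mul_self_eq_zero.1 h7)
          subst h6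
          have h7 : x = x' := add_right_cancel h3
          subst h7
          rfl
        · rintro ⟨x, hx⟩
          obtain ⟨l, hl⟩ := FiniteField.isSquare_of_char_two hch (Q x / Q v)
          refine ⟨(⟨x + (-l) • v, P.add_mem hx (P.smul_mem _ hvP), ?_⟩, l), Subtype.ext ?_⟩
          · rw [hQ x hx]
            have h3 : l * l * Q v = Q x := by rw [← hl, div_mul_cancel₀ _ hv]
            linear_combination h3 + Q x * h2
          · show x + (-l) • v + l • v = x
            module
      have h3 := Nat.card_congr (Equiv.ofBijective _ hbij)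
      rw [Nat.card_prod, Module.natCard_eq_pow_finrank (K := F) (V := P)] at h3
      have hPd' : finrank F P = (finrank F V - 2) + 1 := by
        have : finrank F P = finrank F (perp (frmQ Q) (Submodule.span F {v})) := rfl
        omega
      rw [hPd', pow_succ] at h3
      have hq : 0 < Nat.card F := Nat.card_pos
      rw [Nat.eq_of_mul_eq_mul_right hq h3, hF, ← pow_mul]
      refine dvd_pow_self p (Nat.mul_pos hf ?_).ne'
      omega
    let _ : MulAction A {x : V // x ∈ P ∧ Q x = 0} :=
      { smul := fun a x => ⟨a.1 x.1, hPA _ a.2 _ x.2.1, by rw [hAQ _ a.2]; exact x.2.2⟩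
        one_smul := fun x => rfl
        mul_smul := fun a b x => rfl }
    have h0 : (⟨0, P.zero_mem, QuadraticMap.map_zero Q⟩ : {x : V // x ∈ P ∧ Q x = 0}) ∈
        MulAction.fixedPoints A {x : V // x ∈ P ∧ Q x = 0} := fun a => Subtype.ext (map_zero a.1)
    obtain ⟨b, hb, hb0⟩ := hA.exists_fixed_point_of_prime_dvd_card_of_fixed_point _ hp2 h0
    refine ⟨b.1, fun a ha => congrArg Subtype.val (hb ⟨a, ha⟩), fun hbv => hb0 ?_⟩
    obtain ⟨c, hc⟩ := Submodule.mem_span_singleton.1 hbv
    have h3 := b.2.2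
    rw [← hc, QuadraticMap.map_smul, smul_eq_mul] at h3
    have h4 : c = 0 := mul_self_eq_zero.1 ((mul_eq_zero.1 h3).resolve_right hv)
    apply Subtype.ext
    show (0 : V) = b.1
    rw [← hc, h4, zero_smul]
  · have hP0 : P ≠ ⊥ := by
      intro h0
      have h3 : finrank F P = 0 := by rw [h0, finrank_bot]
      have h4 : finrank F P = finrank F (perp (frmQ Q) (Submodule.span F {v})) := rfl
      omega
    obtain ⟨s, hs, hs0, hsA⟩ := exists_fixed hp hf hF hA (S := P) hPA hP0
    refine ⟨s, hsA, fun hsv => hs0 ?_⟩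
    obtain ⟨c, hc⟩ := Submodule.mem_span_singleton.1 hsv
    have h3 := (hPm s).1 hs
    rw [← hc, polar_smul_left, polar_self, nsmul_eq_mul, smul_eq_mul] at h3
    have h2' : ((2 : ℕ) : F) ≠ 0 := by exact_mod_cast h2
    rcases mul_eq_zero.1 h3 with h4 | h4
    · rw [← hc, h4, zero_smul]
    · rcases mul_eq_zero.1 h4 with h5 | h5
      · exact absurd h5 h2'
      · exact absurd h5 hv

variable {p f m : ℕ} {K : Subgroup (V ≃ₗ[F] V)}

/-- **(i)** -/
theorem common_i (h : D2 Q p f m K) (hm' : Odd (m - 1)) {r : ℕ} (hr : r.Prime) (hord : orderOf (p : ZMod r) = f * (m - 1))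
    {y : V ≃ₗ[F] V} (hyr : orderOf y = r) {v : V} (hv : Q v ≠ 0) (hy : y ∈ stb K v)
    (A : Subgroup (V ≃ₗ[F] V)) (hA : A ≤ stb K v) (hAn : ∀ k ∈ stb K v, ∀ a ∈ A, k * a * k⁻¹ ∈ A)
    (hAc : Nat.card A = p ^ (f * (m - 1))) :
    ∃ W : Submodule F V, (∀ w ∈ W, Q w = 0) ∧ finrank F W = m - 1 ∧ (∀ w ∈ W, polar Q v w = 0) ∧ (∀ w ∈ W, y w ∈ W) ∧
      ∀ z, (∀ a ∈ A, a z = z) ↔ ∃ c : F, ∃ w ∈ W, z = c • v + w := by
  classical
  have hfV : Finite V := Module.finite_of_finite F
  have hp := h.hp
  have hm := h.hm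
  have hf := h.hf
  have := Fact.mk hp
  have := Fact.mk hr
  have hn0 : 0 < f * (m - 1) := Nat.mul_pos (by omega) (by omega)
  have hv0 : v ≠ 0 := fun h0 => hv (by rw [h0, QuadraticMap.map_zero])
  have hrp : r ≠ p := by
    rintro rfl
    rw [ZMod.natCast_self, orderOf_zero] at hord
    omega
  have hr0 : (r : F) ≠ 0 := h.cast_ne hr hrp
  have hyQ := h.iso y hy.1
  have hyr' : y ^ r = 1 := by rw [← hyr]; exact pow_orderOf_eq_one y
  -- the fixed plane
  let C : Submodule F V := fxv y
  have hCnd : Nd Q C := h.nd_fixS hy.1 (by rw [hyr]; exact hr) (by rw [hyr]; exact hrp)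
  have hdv : ∀ S : Submodule F V, (∀ s ∈ S, y s ∈ S) → (m - 1) ∣ finrank F S - finrank F (S ⊓ C : Submodule F V) :=
    fun S hS => dvd_dim h.hF hr hn0 hord hyr' hS
  have hCd : finrank F C = 2 := by
    have h1 : finrank F C ≤ 2 := h.fix_le_two hy.1 (by rw [hyr]; exact hr) (by rw [hyr]; exact hrp)
    have h2 := hdv ⊤ fun _ _ => trivial
    rw [top_inf_eq, finrank_top, h.dim] at h2
    have h3 : 2 * m - finrank F C = (m - 1) * 2 + (2 - finrank F C) := by omega
    rw [h3] at h2
    have h4 := (Nat.dvd_add_right (Dvd.intro _ rfl)).1 h2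
    by_contra hne
    have h5 := Nat.le_of_dvd (by omega) h4
    omega
  have hvC : v ∈ C := mem_fxv.2 hy.2
  -- the orthogonal space
  let D : Submodule F V := perp (frmQ Q) C
  have hDm : ∀ d ∈ D, ∀ c ∈ C, polar Q d c = 0 := fun d hd c hc => hd c hc
  have hDd : finrank F D = 2 * m - 2 := by
    have h1 := finrank_perp (frmQ Q) h.nd C
    have h2 : finrank F D = finrank F (perp (frmQ Q) C) := rfl
    rw [hCd, h.dim] at h1
    omega
  have hCD : C ⊓ D = ⊥ := by
    rw [eq_bot_iff]
    rintro x ⟨hx, hx'⟩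
    rw [Submodule.mem_bot]
    exact hCnd x hx fun c hc => hDm x hx' c hc
  have hsup : C ⊔ D = ⊤ := by
    apply Submodule.eq_top_of_finrank_eq
    have h1 := Submodule.finrank_sup_add_finrank_inf_eq C D
    rw [hCD, finrank_bot, hCd, hDd] at h1
    rw [h.dim]
    omega
  have hDy : ∀ d ∈ D, y d ∈ D := by
    intro d hd c hc
    have h1 := polar_iso hyQ d c
    rw [mem_fxv.1 hc] at h1
    show polar Q (y d) c = 0
    rw [h1]
    exact hDm d hd c hc
  -- components
  have hcomp : ∀ S : Submodule F V, (∀ s ∈ S, y s ∈ S) → ∀ c ∈ C, ∀ d ∈ D, c + d ∈ S → c ∈ S ∧ d ∈ S := by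
    intro S hS c hc d hd hcd
    have hpow : ∀ (T : Submodule F V), (∀ s ∈ T, y s ∈ T) → ∀ j : ℕ, ∀ s ∈ T, (y ^ j) s ∈ T := by
      intro T hT j
      induction j with
      | zero => intro s hs; exact hs
      | succ j ih =>
        intro s hs
        rw [pow_succ']
        exact hT _ (ih s hs)
    have h1 : ∑ j ∈ Finset.range r, (y ^ j) (c + d) ∈ S := S.sum_mem fun j _ => hpow S hS j _ hcd
    have h2 : ∑ j ∈ Finset.range r, (y ^ j) (c + d) = (r : F) • c + ∑ j ∈ Finset.range r, (y ^ j) d := by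
      have h3 : ∀ j : ℕ, (y ^ j) c = c := by
        intro j
        induction j with
        | zero => rfl
        | succ j ih =>
          rw [pow_succ']
          show y ((y ^ j) c) = c
          rw [ih]
          exact mem_fxv.1 hc
      simp only [map_add, h3]
      rw [Finset.sum_add_distrib, Finset.sum_const, Finset.card_range, Nat.cast_smul_eq_nsmul]
    have h3 : ∑ j ∈ Finset.range r, (y ^ j) d = 0 := by
      have h4 : ∑ j ∈ Finset.range r, (y ^ j) d ∈ C ⊓ D :=
        ⟨mem_fxv.2 (sum_fixed hyr' d), D.sum_mem fun j _ => hpow D hDy j _ hd⟩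
      rw [hCD] at h4
      exact (Submodule.mem_bot F).1 h4
    rw [h2, h3, add_zero] at h1
    have h4 : c ∈ S := by
      have h5 := S.smul_mem (r : F)⁻¹ h1
      rwa [smul_smul, inv_mul_cancel₀ hr0, one_smul] at h5
    refine ⟨h4, ?_⟩
    have h5 := S.sub_mem hcd h4
    rwa [add_sub_cancel_left] at h5
  -- invariant subspaces of `D`
  have hdvD : ∀ S ≤ D, (∀ s ∈ S, y s ∈ S) → (m - 1) ∣ finrank F S := by
    intro S hSD hS
    have h1 := hdv S hS
    have h2 : S ⊓ C = ⊥ := by
      rw [eq_bot_iff, ← hCD]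
      exact fun x hx => ⟨hx.2, hSD hx.1⟩
    rwa [h2, finrank_bot, Nat.sub_zero] at h1
  -- the fixed space of `A`
  have hAK : ∀ a ∈ A, a ∈ K := fun a ha => (hA ha).1
  have hAQ : ∀ a ∈ A, ∀ x, Q (a x) = Q x := fun a ha => h.iso a (hAK a ha)
  have hAp : IsPGroup p A := IsPGroup.of_card hAc
  obtain ⟨a₁, ha₁, ha₁1⟩ : ∃ a ∈ A, a ≠ 1 := by
    by_contra hcon
    push Not at hcon
    have h1 : A = ⊥ := (Subgroup.eq_bot_iff_forall A).2 hcon
    rw [h1, Subgroup.card_bot] at hAc
    have := Nat.one_lt_pow hn0.ne' hp.one_lt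
    omega
  let E : Submodule F V := fxG A
  have hEy : ∀ x ∈ E, y x ∈ E := by
    intro x hx a ha
    have h1 : y⁻¹ * a * y ∈ A := by
      have := hAn y⁻¹ (inv_mem hy) a ha
      rwa [inv_inv] at this
    have h2 : (y⁻¹ * a * y) x = x := hx _ h1
    have h3 : y ((y⁻¹ * a * y) x) = a (y x) := by
      change (y * (y⁻¹ * a * y)) x = (a * y) x
      congr 1
      group
    rw [← h3, h2]
  have hEd : finrank F E ≤ m + 1 := by
    refine le_trans (Submodule.finrank_mono (?_ : E ≤ fixS a₁)) (h.fix_le (hAK a₁ ha₁) ha₁1)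
    intro x hx
    exact mem_fixS.2 (hx a₁ ha₁)
  have hvE : v ∈ E := fun a ha => (hA ha).2
  let W : Submodule F V := E ⊓ D
  have hWy : ∀ w ∈ W, y w ∈ W := fun w hw => ⟨hEy w hw.1, hDy w hw.2⟩
  have hWd' : finrank F W ≠ 0 → finrank F W = m - 1 := by
    intro h0
    have h1 := hdvD W inf_le_right hWy
    have h2 : finrank F W ≤ m + 1 := (Submodule.finrank_mono inf_le_left).trans hEd
    obtain ⟨c, hc⟩ := h1
    have h3 : c = 1 := by
      rcases c with _ | _ | c
      · rw [mul_zero] at hc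
        exact absurd hc h0
      · rfl
      · exfalso
        have : (m - 1) * 2 ≤ (m - 1) * (c + 1 + 1) := Nat.mul_le_mul_left _ (by omega)
        omega
    rw [hc, h3, mul_one]
  have hTS : finrank F W = m - 1 → ∀ w ∈ W, Q w = 0 := by
    intro hWd
    have hpol : ∀ w ∈ W, ∀ w' ∈ W, polar Q w w' = 0 := by
      let R : Submodule F V := W ⊓ perp (frmQ Q) W
      have hRy : ∀ x ∈ R, y x ∈ R := by
        rintro x ⟨hx, hx'⟩
        refine ⟨hWy x hx, ?_⟩
        intro w hw
        -- `w = y w'`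
        obtain ⟨w', hw', rfl⟩ : ∃ w' ∈ W, y w' = w := by
          have hinj : Function.Injective (fun w : W => (⟨y w, hWy w w.2⟩ : W)) := fun a b hab =>
            Subtype.ext (y.injective (congrArg Subtype.val hab))
          obtain ⟨w', hw'⟩ := Finite.injective_iff_surjective.1 hinj ⟨w, hw⟩
          exact ⟨w', w'.2, congrArg Subtype.val hw'⟩
        show polar Q (y x) (y w') = 0
        rw [polar_iso hyQ]
        exact hx' w' hw'
      have h1 := hdvD R (inf_le_left.trans inf_le_right) hRy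
      have h2 : finrank F R ≤ finrank F W := Submodule.finrank_mono inf_le_left
      rcases Nat.eq_zero_or_pos (finrank F R) with h3 | h3
      · exfalso
        have h4 : R = ⊥ := Submodule.finrank_eq_zero.1 h3
        have hnd : Nd Q W := by
          intro x hx hx'
          have h5 : x ∈ R := ⟨hx, fun w hw => hx' w hw⟩
          rw [h4] at h5
          exact (Submodule.mem_bot F).1 h5
        obtain ⟨u, hu, w, hw, ha⟩ := exists_aniso_nd hnd (by omega)
        exact h.fix a₁ (hAK a₁ ha₁) ha₁1 u w ha (hu.1 a₁ ha₁) (hw.1 a₁ ha₁)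
      · have h4 := Nat.le_of_dvd h3 h1
        have h5 : R = W := Submodule.eq_of_le_of_finrank_le inf_le_left (by omega)
        intro w hw w' hw'
        rw [← h5] at hw
        exact hw.2 w' hw'
    exact sing_of_polar (by omega) hyQ hWd hWy (fun S hS hSy => hdvD S (hS.trans inf_le_right) hSy) hpol
  -- `A` is not trivial on `C`
  have hCE : ¬ C ≤ E := by
    intro hCE
    have hDA : ∀ a ∈ A, ∀ d ∈ D, a d ∈ D := by
      intro a ha d hd c hc
      have h1 := polar_iso (hAQ a ha) d c
      rw [hCE hc a ha] at h1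
      show polar Q (a d) c = 0
      rw [h1]
      exact hDm d hd c hc
    have hD0 : D ≠ ⊥ := by
      intro h0
      have h1 : finrank F D = 0 := by rw [h0, finrank_bot]
      omega
    obtain ⟨s, hs, hs0, hsA⟩ := exists_fixed hp (by omega) h.hF hAp (S := D) hDA hD0
    have hW0 : finrank F W ≠ 0 := by
      intro h0
      have h1 : W = ⊥ := Submodule.finrank_eq_zero.1 h0
      have h2 : s ∈ W := ⟨hsA, hs⟩
      rw [h1] at h2
      exact hs0 ((Submodule.mem_bot F).1 h2)
    have hWd := hWd' hW0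
    have hWQ := hTS hWd
    have hpol : ∀ w ∈ W, ∀ w' ∈ W, polar Q w w' = 0 := by
      intro w hw w' hw'
      rw [polar, hWQ _ (W.add_mem hw hw'), hWQ _ hw, hWQ _ hw']
      ring
    have hperp : perp (frmQ Q) W = C ⊔ W := by
      have h1 := finrank_perp (frmQ Q) h.nd W
      have h2 := Submodule.finrank_sup_add_finrank_inf_eq C W
      have h3 : C ⊓ W = ⊥ := by
        rw [eq_bot_iff, ← hCD]
        exact inf_le_inf_left _ inf_le_right
      rw [h3, finrank_bot, hCd, hWd] at h2
      have h4 : C ⊔ W ≤ perp (frmQ Q) W := by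
        refine sup_le ?_ ?_
        · intro c hc w hw
          show polar Q c w = 0
          rw [polar_comm]
          exact hDm w hw.2 c hc
        · intro w hw w' hw'
          exact hpol w hw w' hw'
      rw [hWd, h.dim] at h1
      exact (Submodule.eq_of_le_of_finrank_le h4 (by omega)).symm
    apply ha₁1
    refine h.alt_odd hm' hWQ hWd (hAK a₁ ha₁) fun z hz => ?_
    have h1 : z ∈ perp (frmQ Q) W := fun w hw => hz w hw
    rw [hperp] at h1
    exact (sup_le hCE inf_le_left : C ⊔ W ≤ E) h1 a₁ ha₁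
  have hEC : ∀ x ∈ E, x ∈ C → x ∈ Submodule.span F {v} := by
    have h1 : finrank F (E ⊓ C : Submodule F V) < 2 := by
      by_contra hcon
      apply hCE
      have h2 : E ⊓ C = C := Submodule.eq_of_le_of_finrank_le inf_le_right (by omega)
      rw [← h2]
      exact inf_le_left
    have h2 : Submodule.span F {v} = E ⊓ C := by
      refine Submodule.eq_of_le_of_finrank_le ?_ ?_
      · rw [Submodule.span_singleton_le_iff_mem]
        exact ⟨hvE, hvC⟩
      · rw [finrank_span_singleton hv0]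
        omega
    intro x hx hx'
    rw [h2]
    exact ⟨hx, hx'⟩
  have hW0 : finrank F W ≠ 0 := by
    obtain ⟨x, hx, hxv⟩ := exists_other (Q := Q) hp (by omega) h.hF h.nd (by rw [h.dim]; omega) hv hAp hAQ
      (fun a ha => (hA ha).2)
    obtain ⟨c, hc, d, hd, rfl⟩ := Submodule.mem_sup.1 (hsup ▸ Submodule.mem_top : x ∈ C ⊔ D)
    obtain ⟨h1, h2⟩ := hcomp E hEy c hc d hd hx
    intro h0
    have h3 : W = ⊥ := Submodule.finrank_eq_zero.1 h0
    have h4 : d ∈ W := ⟨h2, hd⟩
    rw [h3] at h4
    rw [(Submodule.mem_bot F).1 h4, add_zero] at hxv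
    exact hxv (hEC c h1 hc)
  have hWd := hWd' hW0
  refine ⟨W, hTS hWd, hWd, ?_, hWy, ?_⟩
  · intro w hw
    rw [polar_comm]
    exact hDm w hw.2 v hvC
  · intro z
    constructor
    · intro hz
      obtain ⟨c, hc, d, hd, rfl⟩ := Submodule.mem_sup.1 (hsup ▸ Submodule.mem_top : z ∈ C ⊔ D)
      obtain ⟨h1, h2⟩ := hcomp E hEy c hc d hd hz
      obtain ⟨l, hl⟩ := Submodule.mem_span_singleton.1 (hEC c h1 hc)
      exact ⟨l, d, ⟨h2, hd⟩, by rw [hl]⟩
    · rintro ⟨c, w, hw, rfl⟩ a ha
      rw [map_add, map_smul, hvE a ha, hw.1 a ha]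

end Cfsg.Agent.H50.D2
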