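import Mathlib

/-!
# F-D+2, q odd: the numerical end (helper50; S3691)
-/

set_option autoImplicit false

namespace Cfsg.Agent.H50.D2

theorem three_mul_le {p f : ℕ} (hp3 : 3 ≤ p) : 3 * f ≤ p ^ f := by
  have h1 : 3 * f ≤ 3 ^ f := by
    induction f with
    | zero => norm_num
    | succ f ih =>
      have h2 : 1 ≤ 3 ^ f := Nat.one_le_pow _ _ (by norm_num)
      rcases Nat.eq_zero_or_pos f with rfl | hf
      · norm_num
      · rw [pow_succ]
        omega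
  exact h1.trans (Nat.pow_le_pow_left hp3 f)

/-- the `p`-part and the `p'`-part of a divisor of `T (T - 1)` -/
theorem parts {p f n x c : ℕ} (hp : p.Prime) (hd : x ∣ p ^ (f * n) * (p ^ (f * n) - 1))
    (hc : ¬ p ∣ c) (hx : x ∣ c * n) (hx0 : x ≠ 0) :
    ∃ i x' : ℕ, x = p ^ i * x' ∧ p ^ i ∣ n ∧ x' ∣ p ^ (f * n) - 1 := by
  obtain ⟨i, x', hx', rfl⟩ := Nat.exists_eq_pow_mul_and_not_dvd hx0 p hp.one_lt.ne'
  refine ⟨i, x', rfl, ?_, ?_⟩
  · have h1 : p ^ i ∣ c * n := (dvd_mul_right _ _).trans hx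
    exact ((Nat.Coprime.pow_left i ((Nat.Prime.coprime_iff_not_dvd hp).2 hc))).dvd_of_dvd_mul_left h1
  · have h1 : x' ∣ p ^ (f * n) * (p ^ (f * n) - 1) := (dvd_mul_left _ _).trans hd
    refine Nat.Coprime.dvd_of_dvd_mul_left ?_ h1
    exact (Nat.Coprime.pow_left (f * n) ((Nat.Prime.coprime_iff_not_dvd hp).2 hx')).symm

theorem three_le {p : ℕ} (hp : p.Prime) (hp2 : p ≠ 2) : 3 ≤ p := by
  have := hp.two_le
  omega

/-- the bound `9 * 2 f (q + 1) ≤ 8 q ^ 2` -/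
theorem fq_le {q f : ℕ} (h3 : 3 * f ≤ q) (hq3 : 3 ≤ q) : 9 * (2 * f * (q + 1)) ≤ 8 * q ^ 2 := by
  have h1 : 3 * (q + 1) ≤ 4 * q := by omega
  calc 9 * (2 * f * (q + 1)) = 2 * ((3 * f) * (3 * (q + 1))) := by ring
    _ ≤ 2 * (q * (4 * q)) := Nat.mul_le_mul_left _ (Nat.mul_le_mul h3 h1)
    _ = 8 * q ^ 2 := by ring

theorem grow {l : ℕ} : 8 * (l + 3) < 9 * 3 ^ (l + 1) := by
  induction l with
  | zero => norm_num
  | succ l ih =>
    rw [pow_succ]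
    omega

theorem grow2 {l : ℕ} : 32 * (l + 5) < 9 * 3 ^ (l + 3) := by
  induction l with
  | zero => norm_num
  | succ l ih =>
    rw [show l + 1 + 3 = l + 3 + 1 by ring, pow_succ]
    omega

theorem two_coprime {p : ℕ} (hp : p.Prime) (hp2 : p ≠ 2) (i : ℕ) : (p ^ i).Coprime 2 :=
  Nat.Coprime.pow_left i ((Nat.coprime_primes hp Nat.prime_two).2 hp2)

theorem num_even {p f m k a x c : ℕ} (hp : p.Prime) (hp2 : p ≠ 2) (hf : 1 ≤ f) (hm : 5 ≤ m) (hm' : Even (m - 1))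
    (hodd : Odd k) (hd : k ∣ p ^ (f * (m - 1)) * (p ^ (f * (m - 1)) - 1)) (hk : k = a * x)
    (ha : a ^ 2 ≤ p ^ (f * (m - 1))) (hc : ¬ p ∣ c) (hx : x ∣ c * (m - 1))
    (hge : p ^ (f * (m - 1)) * (p ^ (f * (m - 1)) - 1) ≤ 2 * (p ^ f + 1) * (8 * f) * k) : False := by
  subst hk
  have hp3 := three_le hp hp2
  obtain ⟨n, rfl⟩ : ∃ n, m = n + 1 := ⟨m - 1, by omega⟩
  rw [Nat.add_sub_cancel] at *
  have hx0 : x ≠ 0 := by
    rintro rfl
    rw [mul_zero] at hodd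
    exact absurd hodd (by decide)
  obtain ⟨i, x', rfl, hin, hx'⟩ := parts hp ((dvd_mul_left _ _).trans hd) hc hx hx0
  obtain ⟨l, hl⟩ := hm'
  have h3f := three_mul_le (f := f) hp3
  have hq3 : 3 ≤ p ^ f := hp3.trans (Nat.le_self_pow (by omega) p)
  have hqoddf : Odd (p ^ f) := (hp.odd_of_ne_two hp2).pow
  have hT : p ^ (f * n) = ((p ^ f) ^ l) ^ 2 := by
    rw [← pow_mul, ← pow_mul]
    congr 1
    rw [hl]; ring
  rw [hT] at hge ha hd hx'
  generalize p ^ f = q at *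
  have hqodd : Odd (q ^ l) := hqoddf.pow
  have h8 : 8 ∣ (q ^ l) ^ 2 - 1 := Nat.eight_dvd_sq_sub_one_of_odd hqodd
  have hx'odd : Odd x' := by
    rw [Nat.odd_mul, Nat.odd_mul] at hodd
    exact hodd.2.2
  have hcop : Nat.Coprime 8 x' := by
    have h1 : Nat.Coprime 2 x' := hx'odd.coprime_two_left
    have h2 : Nat.Coprime (2 ^ 3) x' := h1.pow_left 3
    simpa using h2
  have h8x : 8 * x' ∣ (q ^ l) ^ 2 - 1 := hcop.mul_dvd_of_dvd_of_dvd h8 hx'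
  set T := (q ^ l) ^ 2 with hTd
  have hT1 : 1 < T := by
    rw [hTd, ← pow_mul]
    exact Nat.one_lt_pow (by omega) (by omega)
  have h8le : 8 * x' ≤ T - 1 := Nat.le_of_dvd (by omega) h8x
  have h4 : T * (T - 1) ≤ (2 * f * (q + 1) * p ^ i * a) * (T - 1) := by
    calc T * (T - 1) ≤ 2 * (q + 1) * (8 * f) * (a * (p ^ i * x')) := hge
      _ = (2 * f * (q + 1) * p ^ i * a) * (8 * x') := by ring
      _ ≤ _ := Nat.mul_le_mul_left _ h8le
  have h5 : T ≤ 2 * f * (q + 1) * p ^ i * a := Nat.le_of_mul_le_mul_right h4 (by omega)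
  have h6 : T * T ≤ (2 * f * (q + 1) * p ^ i) ^ 2 * T := by
    calc T * T ≤ (2 * f * (q + 1) * p ^ i * a) * (2 * f * (q + 1) * p ^ i * a) := Nat.mul_le_mul h5 h5
      _ = (2 * f * (q + 1) * p ^ i) ^ 2 * a ^ 2 := by ring
      _ ≤ _ := Nat.mul_le_mul_left _ ha
  have h7 : T ≤ (2 * f * (q + 1) * p ^ i) ^ 2 := Nat.le_of_mul_le_mul_right h6 (by omega)
  have h8' : q ^ l ≤ 2 * f * (q + 1) * p ^ i := (Nat.pow_le_pow_iff_left (by norm_num)).1 h7
  have h9 := fq_le h3f hq3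
  have hil : p ^ i ∣ l := by
    rw [hl, ← two_mul] at hin
    exact (two_coprime hp hp2 i).dvd_of_dvd_mul_left hin
  obtain ⟨j, rfl⟩ : ∃ j, l = j + 2 := ⟨l - 2, by omega⟩
  have h10 : 9 * q ^ j ≤ 8 * p ^ i := by
    have h11 : (9 * q ^ j) * q ^ 2 ≤ (8 * p ^ i) * q ^ 2 := by
      calc (9 * q ^ j) * q ^ 2 = 9 * q ^ (j + 2) := by rw [pow_add]; ring
        _ ≤ 9 * (2 * f * (q + 1) * p ^ i) := Nat.mul_le_mul_left _ h8'
        _ = (9 * (2 * f * (q + 1))) * p ^ i := by ring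
        _ ≤ (8 * q ^ 2) * p ^ i := Nat.mul_le_mul_right _ h9
        _ = _ := by ring
    exact Nat.le_of_mul_le_mul_right h11 (by positivity)
  rcases Nat.eq_zero_or_pos j with rfl | hj
  · have h12 : p ^ i = 1 := by
      have h13 : (p ^ i).Coprime 2 := two_coprime hp hp2 i
      rw [zero_add] at hil
      exact Nat.Coprime.eq_one_of_dvd h13 hil
    rw [h12, pow_zero] at h10
    omega
  · obtain ⟨t, rfl⟩ : ∃ t, j = t + 1 := ⟨j - 1, by omega⟩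
    have h12 : p ^ i ≤ t + 3 := Nat.le_of_dvd (by omega) hil
    have h13 : 3 ^ (t + 1) ≤ q ^ (t + 1) := Nat.pow_le_pow_left hq3 _
    have h14 := grow (l := t)
    omega

theorem num_bot {p f m k c : ℕ} (hp : p.Prime) (hp2 : p ≠ 2) (hf : 1 ≤ f) (hm : 5 ≤ m)
    (hodd : Odd k) (hd : k ∣ p ^ (f * (m - 1)) * (p ^ (f * (m - 1)) - 1))
    (hc : ¬ p ∣ c) (hk : k ∣ c * (m - 1))
    (hge : p ^ (f * (m - 1)) * (p ^ (f * (m - 1)) - 1) ≤ 2 * (p ^ f + 1) * (8 * f) * k) : False := by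
  have hp3 := three_le hp hp2
  obtain ⟨n, rfl⟩ : ∃ n, m = n + 1 := ⟨m - 1, by omega⟩
  rw [Nat.add_sub_cancel] at *
  have hx0 : k ≠ 0 := by
    rintro rfl
    exact absurd hodd (by decide)
  obtain ⟨i, x', rfl, hin, hx'⟩ := parts hp hd hc hk hx0
  have h3f := three_mul_le (f := f) hp3
  have hq3 : 3 ≤ p ^ f := hp3.trans (Nat.le_self_pow (by omega) p)
  have hqoddf : Odd (p ^ f) := (hp.odd_of_ne_two hp2).pow
  have hT : p ^ (f * n) = (p ^ f) ^ n := by rw [← pow_mul]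
  rw [hT] at hge hd hx'
  generalize p ^ f = q at *
  have hqodd : Odd (q ^ n) := hqoddf.pow
  set T := q ^ n with hTd
  have hT1 : 1 < T := Nat.one_lt_pow (by omega) (by omega)
  have h2 : 2 ∣ T - 1 := by
    obtain ⟨j, hj⟩ := hqodd
    exact ⟨j, by omega⟩
  have hx'odd : Odd x' := by
    rw [Nat.odd_mul] at hodd
    exact hodd.2
  have h2x : 2 * x' ∣ T - 1 := hx'odd.coprime_two_left.mul_dvd_of_dvd_of_dvd h2 hx'
  have h2le : 2 * x' ≤ T - 1 := Nat.le_of_dvd (by omega) h2x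
  have h4 : T * (T - 1) ≤ (4 * (2 * f * (q + 1)) * p ^ i) * (T - 1) := by
    calc T * (T - 1) ≤ 2 * (q + 1) * (8 * f) * (p ^ i * x') := hge
      _ = (4 * (2 * f * (q + 1)) * p ^ i) * (2 * x') := by ring
      _ ≤ _ := Nat.mul_le_mul_left _ h2le
  have h5 : T ≤ 4 * (2 * f * (q + 1)) * p ^ i := Nat.le_of_mul_le_mul_right h4 (by omega)
  have h9 := fq_le h3f hq3
  obtain ⟨j, rfl⟩ : ∃ j, n = j + 4 := ⟨n - 4, by omega⟩
  have h10 : 9 * q ^ (j + 2) ≤ 32 * p ^ i := by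
    have h11 : (9 * q ^ (j + 2)) * q ^ 2 ≤ (32 * p ^ i) * q ^ 2 := by
      calc (9 * q ^ (j + 2)) * q ^ 2 = 9 * T := by rw [hTd, pow_add q j 2, pow_add q j 4]; ring
        _ ≤ 9 * (4 * (2 * f * (q + 1)) * p ^ i) := Nat.mul_le_mul_left _ h5
        _ = 4 * (9 * (2 * f * (q + 1))) * p ^ i := by ring
        _ ≤ 4 * (8 * q ^ 2) * p ^ i := Nat.mul_le_mul_right _ (Nat.mul_le_mul_left _ h9)
        _ = _ := by ring
    exact Nat.le_of_mul_le_mul_right h11 (by positivity)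
  rcases Nat.eq_zero_or_pos j with rfl | hj
  · have h12 : p ^ i = 1 := by
      have h13 : (p ^ i).Coprime (2 ^ 2) := (two_coprime hp hp2 i).pow_right 2
      rw [zero_add] at hin
      exact Nat.Coprime.eq_one_of_dvd h13 (by simpa using hin)
    rw [h12, zero_add] at h10
    have h13 : 3 ^ 2 ≤ q ^ 2 := Nat.pow_le_pow_left hq3 _
    omega
  · obtain ⟨t, rfl⟩ : ∃ t, j = t + 1 := ⟨j - 1, by omega⟩
    have h12 : p ^ i ≤ t + 1 + 4 := Nat.le_of_dvd (by omega) hin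
    have h13 : 3 ^ (t + 3) ≤ q ^ (t + 1 + 2) := Nat.pow_le_pow_left hq3 _
    have h14 := grow2 (l := t)
    omega

end Cfsg.Agent.H50.D2
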