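import Cfsg.Agent.H386.Rg.D2
import Cfsg.Agent.H440.Bs.FrmL
import Cfsg.Agent.H847.Bs.Defs2

/-!
# S3691, residual case F-D+2: the order of a vector stabiliser (helper50)

* `equi` : equidistribution of the norms along cosets of a totally singular subspace;
* `card_norm_le`, `card_pair` : vectors of given norm; second vectors of anisotropic planes;
* `card_stb_dvd` (V3), `card_stb_ge` (V4).
-/

set_option autoImplicit false
set_option linter.unusedSectionVars false

namespace Cfsg.Agent.H50.D2

open QuadraticMap Module Cfsg.Agent.H386.Rg Cfsg.Agent.H847.Bs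
open Cfsg.Agent.H440.Bs (perp mem_perp finrank_perp)

universe u v

variable {F : Type u} {V : Type v} [Field F] [AddCommGroup V] [Module F V] {Q : QuadraticForm F V}

theorem polar_zero {W : Submodule F V} (hW : ∀ w ∈ W, Q w = 0) {w w' : V} (h : w ∈ W) (h' : w' ∈ W) : polar Q w w' = 0 := by
  rw [polar, hW _ (W.add_mem h h'), hW _ h, hW _ h']
  ring

theorem Q_add' (x y : V) : Q (x + y) = Q x + Q y + polar Q x y := by
  rw [polar]; ring

/-- equidistribution of the norms -/
theorem equi {W : Submodule F V} (hW : ∀ w ∈ W, Q w = 0) (S : Set V) (hS : ∀ u ∈ S, ∀ w ∈ W, u + w ∈ S)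
    (hS' : ∀ u ∈ S, ∃ w ∈ W, polar Q u w ≠ 0) (c : F) :
    Nat.card {u // u ∈ S} = Nat.card {u // u ∈ S ∧ Q u = c} * Nat.card F := by
  classical
  have key : ∀ x : V ⧸ W, ∃ w, ∀ u, (Submodule.Quotient.mk u : V ⧸ W) = x → u ∈ S → w ∈ W ∧ polar Q u w = 1 := by
    intro x
    obtain ⟨u0, rfl⟩ := Submodule.Quotient.mk_surjective _ x
    by_cases hu0 : u0 ∈ S
    · obtain ⟨w, hw, hw0⟩ := hS' u0 hu0
      refine ⟨(polar Q u0 w)⁻¹ • w, fun u hu _ => ⟨W.smul_mem _ hw, ?_⟩⟩
      rw [Submodule.Quotient.eq] at hu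
      have h1 : polar Q u w = polar Q u0 w := by
        have h2 := polar_zero hW hu hw
        rw [polar_sub_left] at h2
        exact sub_eq_zero.1 h2
      rw [polar_smul_right, smul_eq_mul, h1, inv_mul_cancel₀ hw0]
    · refine ⟨0, fun u hu hun => ?_⟩
      exfalso
      apply hu0
      rw [Submodule.Quotient.eq] at hu
      have h1 : u0 = u + (-(u - u0)) := by abel
      rw [h1]
      exact hS _ hun _ (W.neg_mem hu)
  choose ω hω using key
  have hmk : ∀ (u w : V), w ∈ W → (Submodule.Quotient.mk (u + w) : V ⧸ W) = Submodule.Quotient.mk u := by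
    intro u w hw
    rw [Submodule.Quotient.eq, add_sub_cancel_left]
    exact hw
  have hω' : ∀ u ∈ S, ω (Submodule.Quotient.mk u) ∈ W ∧ polar Q u (ω (Submodule.Quotient.mk u)) = 1 := fun u hu =>
    hω _ u rfl hu
  have hQ : ∀ u ∈ S, ∀ t : F, Q (u + t • ω (Submodule.Quotient.mk u)) = Q u + t := by
    intro u hu t
    rw [Q_add', QuadraticMap.map_smul, hW _ (hω' u hu).1, polar_smul_right, (hω' u hu).2]
    simp
  let e : {u : V // u ∈ S} ≃ {u : V // u ∈ S ∧ Q u = c} × F :=
    { toFun := fun u => (⟨u.1 + (c - Q u.1) • ω (Submodule.Quotient.mk u.1),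
        hS _ u.2 _ (W.smul_mem _ (hω' u.1 u.2).1), by rw [hQ _ u.2, add_sub_cancel]⟩, Q u.1)
      invFun := fun x => ⟨x.1.1 + (x.2 - c) • ω (Submodule.Quotient.mk x.1.1),
        hS _ x.1.2.1 _ (W.smul_mem _ (hω' x.1.1 x.1.2.1).1)⟩
      left_inv := fun u => by
        apply Subtype.ext
        show u.1 + (c - Q u.1) • ω (Submodule.Quotient.mk u.1) +
          (Q u.1 - c) • ω (Submodule.Quotient.mk (u.1 + (c - Q u.1) • ω (Submodule.Quotient.mk u.1))) = u.1
        rw [hmk _ _ (W.smul_mem _ (hω' u.1 u.2).1)]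
        module
      right_inv := fun x => by
        obtain ⟨⟨u, hu, hc⟩, t⟩ := x
        have h1 : Q (u + (t - c) • ω (Submodule.Quotient.mk u)) = t := by rw [hQ _ hu, hc]; ring
        refine Prod.ext (Subtype.ext ?_) h1
        show u + (t - c) • ω (Submodule.Quotient.mk u) + (c - Q (u + (t - c) • ω (Submodule.Quotient.mk u))) •
          ω (Submodule.Quotient.mk (u + (t - c) • ω (Submodule.Quotient.mk u))) = u
        rw [h1, hmk _ _ (W.smul_mem _ (hω' u hu).1)]
        module }
  rw [Nat.card_congr e, Nat.card_prod]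

/-- equidistribution of a linear form -/
theorem equiL {U : Submodule F V} (l : V →ₗ[F] F) (hl : ∃ u ∈ U, l u ≠ 0) (a : F) :
    Nat.card U = Nat.card {u // u ∈ U ∧ l u = a} * Nat.card F := by
  obtain ⟨u1, hu1, h1⟩ := hl
  let w : V := (l u1)⁻¹ • u1
  have hw : w ∈ U := U.smul_mem _ hu1
  have hlw : l w = 1 := by
    show l ((l u1)⁻¹ • u1) = 1
    rw [map_smul, smul_eq_mul, inv_mul_cancel₀ h1]
  let e : U ≃ {u // u ∈ U ∧ l u = a} × F :=
    { toFun := fun u => (⟨u.1 + (a - l u.1) • w, U.add_mem u.2 (U.smul_mem _ hw), by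
        rw [map_add, map_smul, hlw, smul_eq_mul]; ring⟩, l u.1)
      invFun := fun x => ⟨x.1.1 + (x.2 - a) • w, U.add_mem x.1.2.1 (U.smul_mem _ hw)⟩
      left_inv := fun u => by
        apply Subtype.ext
        show u.1 + (a - l u.1) • w + (l u.1 - a) • w = u.1
        module
      right_inv := fun x => by
        obtain ⟨⟨u, hu, ha⟩, t⟩ := x
        have h2 : l (u + (t - a) • w) = t := by rw [map_add, map_smul, hlw, ha, smul_eq_mul]; ring
        refine Prod.ext (Subtype.ext ?_) h2
        show u + (t - a) • w + (a - l (u + (t - a) • w)) • w = u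
        rw [h2]
        module }
  rw [Nat.card_congr e, Nat.card_prod]

section

variable [Finite F] [FiniteDimensional F V]

/-- a maximal totally singular subspace is its own orthogonal space -/
theorem perp_eq {m : ℕ} (hnd : ∀ v : V, (∀ w, polar Q v w = 0) → v = 0) (hd : finrank F V = 2 * m) {W : Submodule F V}
    (hW : ∀ w ∈ W, Q w = 0) (hWd : finrank F W = m) : perp (frmQ Q) W = W := by
  have h1 := finrank_perp (frmQ Q) hnd W
  have hle : W ≤ perp (frmQ Q) W := fun w hw x hx => polar_zero hW hw hx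
  exact (Submodule.eq_of_le_of_finrank_le hle (by omega)).symm

/-- the number of vectors of a given norm `c ≠ 0` -/
theorem card_norm {m : ℕ} (hnd : ∀ v : V, (∀ w, polar Q v w = 0) → v = 0) (hd : finrank F V = 2 * m) {W : Submodule F V}
    (hW : ∀ w ∈ W, Q w = 0) (hWd : finrank F W = m) {c : F} (hc : c ≠ 0) :
    Nat.card F ^ (2 * m) - Nat.card F ^ m = Nat.card {u : V // Q u = c} * Nat.card F := by
  classical
  have hfV : Finite V := Module.finite_of_finite F
  have hp := perp_eq hnd hd hW hWd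
  have h1 := equi (Q := Q) hW {u | u ∉ W} (fun u hu w hw h => hu (by
      have := W.sub_mem h hw
      rwa [add_sub_cancel_right] at this)) (fun u hu => by
      by_contra hcon
      push Not at hcon
      apply hu
      rw [← hp]
      exact fun w hw => hcon w hw) c
  have h2 : Nat.card {u : V // u ∈ {u | u ∉ W}} = Nat.card V - Nat.card W := by
    have := Fintype.ofFinite V
    have := Fintype.ofFinite W
    show Nat.card {u : V // ¬ u ∈ W} = _
    rw [Nat.card_eq_fintype_card, Nat.card_eq_fintype_card, Nat.card_eq_fintype_card, Fintype.card_subtype_compl]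
  rw [h2, Module.natCard_eq_pow_finrank (K := F) (V := V), Module.natCard_eq_pow_finrank (K := F) (V := W), hd, hWd] at h1
  rw [h1]
  congr 1
  refine Nat.card_congr (Equiv.subtypeEquivRight fun u => ?_)
  refine ⟨fun h => h.2, fun h => ⟨fun hu => hc ?_, h⟩⟩
  rw [← h, hW u hu]

/-- the number of vectors `w` with given `polar Q v w = a` and `Q w = b`, if the plane is anisotropic -/
theorem card_pair {m : ℕ} (hm : 1 ≤ m) (hnd : ∀ v : V, (∀ w, polar Q v w = 0) → v = 0) (hd : finrank F V = 2 * m)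
    {W : Submodule F V} (hW : ∀ w ∈ W, Q w = 0) (hWd : finrank F W = m) {v : V} (hv : Q v ≠ 0) {a b : F}
    (hab : ∀ s : F, s ^ 2 * Q v - s * a + b ≠ 0) :
    Nat.card F ^ (2 * m - 1) - Nat.card F ^ m = Nat.card {w : V // polar Q v w = a ∧ Q w = b} * Nat.card F := by
  classical
  have hfV : Finite V := Module.finite_of_finite F
  have hp := perp_eq hnd hd hW hWd
  have hq : 0 < Nat.card F := Nat.card_pos
  let l : V →ₗ[F] F := (polarBilin Q v)
  have hl : ∀ w, l w = polar Q v w := fun w => rfl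
  have hvW : v ∉ W := fun h => hv (hW v h)
  obtain ⟨x₀, hx₀, hx₀l⟩ : ∃ x ∈ W, l x ≠ 0 := by
    by_contra hcon
    push Not at hcon
    apply hvW
    rw [← hp]
    exact fun w hw => hcon w hw
  let W₁ : Submodule F V := W ⊓ LinearMap.ker l
  have hW₁ : ∀ w ∈ W₁, Q w = 0 := fun w hw => hW w hw.1
  -- dimension of `W₁`
  have hd1 : finrank F W₁ = m - 1 := by
    let lW : W →ₗ[F] F := l ∘ₗ W.subtype
    have h1 := LinearMap.finrank_range_add_finrank_ker lW
    have h2 : LinearMap.range lW = ⊤ := by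
      rw [LinearMap.range_eq_top]
      exact LinearMap.surjective (f := lW) fun h => hx₀l (LinearMap.congr_fun h ⟨x₀, hx₀⟩)
    have h3 : finrank F (LinearMap.ker lW) = finrank F W₁ := by
      have h4 : W₁ = (LinearMap.ker lW).map W.subtype := by
        ext x
        simp only [W₁, Submodule.mem_inf, LinearMap.mem_ker, Submodule.mem_map]
        constructor
        · rintro ⟨h5, h6⟩
          exact ⟨⟨x, h5⟩, h6, rfl⟩
        · rintro ⟨y, h5, rfl⟩
          exact ⟨y.2, h5⟩
      rw [h4]
      exact (LinearEquiv.finrank_eq (Submodule.equivMapOfInjective _ W.injective_subtype _))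
    rw [h2, finrank_top, finrank_self, h3, hWd] at h1
    omega
  -- the orthogonal space of `W₁`
  have hperp : perp (frmQ Q) W₁ = W ⊔ Submodule.span F {v} := by
    have h1 := finrank_perp (frmQ Q) hnd W₁
    have h2 : Disjoint W (Submodule.span F {v}) := by
      rw [Submodule.disjoint_span_singleton' (fun h => hv (by rw [h, QuadraticMap.map_zero]))]
      exact hvW
    have h3 := Submodule.finrank_sup_add_finrank_inf_eq W (Submodule.span F {v})
    rw [h2.eq_bot, finrank_bot, hWd, finrank_span_singleton (fun h => hv (by rw [h, QuadraticMap.map_zero]))] at h3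
    refine (Submodule.eq_of_le_of_finrank_le (sup_le ?_ ?_) ?_).symm
    · exact fun w hw x hx => polar_zero hW hw hx.1
    · rw [Submodule.span_singleton_le_iff_mem]
      exact fun x hx => hx.2
    · omega
  have hd2 : finrank F (perp (frmQ Q) W₁) = m + 1 := by
    have h1 := finrank_perp (frmQ Q) hnd W₁
    omega
  let S : Set V := {u | l u = a ∧ u ∉ perp (frmQ Q) W₁}
  have h1 := equi (Q := Q) hW₁ S (fun u hu w hw => ⟨by rw [map_add, hu.1, LinearMap.mem_ker.1 hw.2, add_zero], fun h => hu.2 (by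
      have h2 : w ∈ perp (frmQ Q) W₁ := fun x hx => polar_zero hW hw.1 hx.1
      have := (perp (frmQ Q) W₁).sub_mem h h2
      rwa [add_sub_cancel_right] at this)⟩) (fun u hu => by
      by_contra hcon
      push Not at hcon
      exact hu.2 fun w hw => hcon w hw) b
  have h2 : Nat.card {u // u ∈ S ∧ Q u = b} = Nat.card {w : V // polar Q v w = a ∧ Q w = b} := by
    refine Nat.card_congr (Equiv.subtypeEquivRight fun u => ?_)
    refine ⟨fun h => ⟨h.1.1, h.2⟩, fun h => ⟨⟨h.1, fun hu => ?_⟩, h.2⟩⟩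
    rw [hperp] at hu
    obtain ⟨x, hx, y, hy, rfl⟩ := Submodule.mem_sup.1 hu
    obtain ⟨s, rfl⟩ := Submodule.mem_span_singleton.1 hy
    apply hab s
    obtain ⟨h3, h4⟩ := h
    rw [polar_add_right, polar_smul_right, polar_self, smul_eq_mul] at h3
    rw [Q_add', hW x hx, QuadraticMap.map_smul, polar_smul_right, polar_comm, smul_eq_mul, smul_eq_mul] at h4
    rw [← h4, ← h3]
    simp only [nsmul_eq_mul, Nat.cast_ofNat]
    ring
  have h3 : Nat.card {u : V // u ∈ S} = Nat.card F ^ (2 * m - 1) - Nat.card F ^ m := by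
    have h4 := equiL (U := (⊤ : Submodule F V)) l ⟨x₀, trivial, hx₀l⟩ a
    have h5 := equiL (U := perp (frmQ Q) W₁) l ⟨x₀, by rw [hperp]; exact Submodule.mem_sup_left hx₀, hx₀l⟩ a
    rw [Module.natCard_eq_pow_finrank (K := F) (V := (⊤ : Submodule F V)), finrank_top, hd] at h4
    rw [Module.natCard_eq_pow_finrank (K := F) (V := perp (frmQ Q) W₁), hd2, pow_succ] at h5
    have h6 : Nat.card {u : V // u ∈ perp (frmQ Q) W₁ ∧ l u = a} = Nat.card F ^ m :=
      (Nat.eq_of_mul_eq_mul_right hq h5).symm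
    have h7 : Nat.card {u : V // u ∈ (⊤ : Submodule F V) ∧ l u = a} = Nat.card F ^ (2 * m - 1) := by
      apply Nat.eq_of_mul_eq_mul_right hq
      rw [← h4, ← pow_succ]
      congr 1
      omega
    have h8 : Nat.card {u : V // u ∈ (⊤ : Submodule F V) ∧ l u = a} = Nat.card {u : V // u ∈ S} +
        Nat.card {u : V // u ∈ perp (frmQ Q) W₁ ∧ l u = a} := by
      rw [← Nat.card_sum]
      refine Nat.card_congr
        { toFun := fun u => if h : u.1 ∈ perp (frmQ Q) W₁ then Sum.inr ⟨u.1, h, u.2.2⟩ else Sum.inl ⟨u.1, u.2.2, h⟩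
          invFun := fun u => Sum.elim (fun u => ⟨u.1, trivial, u.2.1⟩) (fun u => ⟨u.1, trivial, u.2.2⟩) u
          left_inv := fun u => by
            by_cases h : u.1 ∈ perp (frmQ Q) W₁
            · simp [h]
            · simp [h]
          right_inv := fun u => by
            rcases u with u | u
            · have := u.2.2
              simp [this]
            · have := u.2.1
              simp [this] }
    omega
  rw [h3, h2] at h1
  exact h1

/-- a plane with prescribed first vector -/
theorem exists_ab {v : V} (hv : Q v ≠ 0) : ∃ a b : F, ∀ s : F, s ^ 2 * Q v - s * a + b ≠ 0 := by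
  obtain ⟨a, ha⟩ : ∃ a : F, ∀ t : F, t * t + a * t + 1 ≠ 0 := by
    by_contra hcon
    push Not at hcon
    choose t ht using hcon
    have ht0 : ∀ a, t a ≠ 0 := by
      intro a h
      have := ht a
      rw [h] at this
      apply one_ne_zero (α := F)
      linear_combination this
    have hinj : Function.Injective t := by
      intro a a' h
      have h1 := ht a
      have h2 := ht a'
      rw [← h] at h2
      have h3 : (a - a') * t a = 0 := by linear_combination h1 - h2
      exact sub_eq_zero.1 ((mul_eq_zero.1 h3).resolve_right (ht0 a))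
    obtain ⟨a, ha⟩ := (Finite.injective_iff_surjective.1 hinj) 0
    exact ht0 a ha
  refine ⟨-(a * Q v), Q v, fun s h => ha s ?_⟩
  have h1 : (s * s + a * s + 1) * Q v = 0 := by linear_combination h
  exact (mul_eq_zero.1 h1).resolve_right hv

theorem aniso_of {v w : V} (hv : Q v ≠ 0) (hab : ∀ s : F, s ^ 2 * Q v - s * polar Q v w + Q w ≠ 0) : Aniso Q v w := by
  intro x y h
  have h1 : x ^ 2 * Q v + x * y * polar Q v w + y ^ 2 * Q w = 0 := by
    rw [Q_add', QuadraticMap.map_smul, QuadraticMap.map_smul, polar_smul_left, polar_smul_right] at h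
    simp only [smul_eq_mul] at h
    linear_combination h
  have hy : y = 0 := by
    by_contra hy
    apply hab (-(x / y))
    have h2 : (-(x / y)) ^ 2 * Q v - -(x / y) * polar Q v w + Q w =
        (x ^ 2 * Q v + x * y * polar Q v w + y ^ 2 * Q w) / y ^ 2 := by
      field_simp
      ring
    rw [h2, h1, zero_div]
  subst hy
  refine ⟨?_, rfl⟩
  have h2 : x ^ 2 * Q v = 0 := by linear_combination h1
  exact pow_eq_zero_iff (two_ne_zero) |>.1 ((mul_eq_zero.1 h2).resolve_right hv)

variable {p f m : ℕ} {K : Subgroup (V ≃ₗ[F] V)}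

/-- V3: the order of the stabiliser of a nonsingular vector -/
theorem card_stb_dvd (h : D2 Q p f m K) {v : V} (hv : Q v ≠ 0) :
    Nat.card (stb K v) ∣ p ^ (f * (m - 1)) * (p ^ (f * (m - 1)) - 1) := by
  have hfV : Finite V := Module.finite_of_finite F
  obtain ⟨a, b, hab⟩ := exists_ab (Q := Q) hv
  obtain ⟨W, hW, hWd⟩ := h.plus
  have hm := h.hm
  have h1 := card_pair (m := m) (by omega) h.nd h.dim hW hWd hv hab
  let _ : MulAction (stb K v) {w : V // polar Q v w = a ∧ Q w = b} :=
    { smul := fun g w => ⟨(g : V ≃ₗ[F] V) w.1, by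
        have h2 : (g : V ≃ₗ[F] V) v = v := g.2.2
        have h3 := h.iso g.1 g.2.1
        refine ⟨?_, by rw [h3]; exact w.2.2⟩
        have h4 : polar Q ((g : V ≃ₗ[F] V) v) ((g : V ≃ₗ[F] V) w.1) = polar Q v w.1 := by
          rw [polar, polar, ← map_add, h3, h3, h3]
        rw [h2] at h4
        rw [h4]
        exact w.2.1⟩
      one_smul := fun w => rfl
      mul_smul := fun a b w => rfl }
  have hst : ∀ w : {w : V // polar Q v w = a ∧ Q w = b}, MulAction.stabilizer (stb K v) w = ⊥ := by
    intro w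
    rw [Subgroup.eq_bot_iff_forall]
    intro g hg
    by_contra hne
    refine h.fix g.1 g.2.1 (fun h2 => hne (Subtype.ext h2)) v w.1 ?_ g.2.2 (congrArg Subtype.val hg)
    refine aniso_of hv ?_
    rw [w.2.1, w.2.2]
    exact hab
  have e := MulAction.selfEquivOrbitsQuotientProd hst
  have h2 : Nat.card {w : V // polar Q v w = a ∧ Q w = b} = p ^ (f * (m - 1)) * (p ^ (f * (m - 1)) - 1) := by
    rw [h.hF] at h1
    apply Nat.eq_of_mul_eq_mul_right (Nat.pow_pos h.hp.pos : 0 < p ^ f)
    rw [← h1, ← pow_mul, ← pow_mul]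
    obtain ⟨k, rfl⟩ : ∃ k, m = k + 1 := ⟨m - 1, by omega⟩
    have e1 : f * (2 * (k + 1) - 1) = f * (k + 1) + f * k := by
      have : 2 * (k + 1) - 1 = (k + 1) + k := by omega
      rw [this]; ring
    have e2 : f * (k + 1) = f * k + f := by ring
    rw [e1, Nat.add_sub_cancel, pow_add, e2, pow_add, Nat.mul_sub, Nat.sub_mul]
    congr 1 <;> ring
  rw [← h2, Nat.card_congr e, Nat.card_prod]
  exact Dvd.intro_left _ rfl

/-- V4 -/
theorem card_stb_ge (h : D2 Q p f m K) {v : V} (hv : Q v ≠ 0) :
    p ^ (f * (m - 1)) * (p ^ (f * (m - 1)) - 1) ≤ 2 * (p ^ f + 1) * ((if p = 2 then 2 else 8) * f) * Nat.card (stb K v) := by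
  have hfV : Finite V := Module.finite_of_finite F
  have hfG : Finite (V ≃ₗ[F] V) := Finite.of_injective (fun e : V ≃ₗ[F] V => (e : V → V)) DFunLike.coe_injective
  obtain ⟨W, hW, hWd⟩ := h.plus
  have hm := h.hm
  have hp1 := h.hp.one_lt
  have h1 := card_norm (m := m) h.nd h.dim hW hWd hv
  have hN : Nat.card {u : V // Q u = Q v} = p ^ (f * (m - 1)) * (p ^ (f * m) - 1) := by
    rw [h.hF] at h1
    apply Nat.eq_of_mul_eq_mul_right (Nat.pow_pos h.hp.pos : 0 < p ^ f)
    rw [← h1, ← pow_mul, ← pow_mul]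
    obtain ⟨k, rfl⟩ : ∃ k, m = k + 1 := ⟨m - 1, by omega⟩
    have e1 : f * (2 * (k + 1)) = f * (k + 1) + f * (k + 1) := by ring
    have e2 : f * (k + 1) = f * k + f := by ring
    rw [e1, Nat.add_sub_cancel, pow_add, Nat.mul_sub, Nat.sub_mul, mul_one]
    have e3 : p ^ (f * (k + 1)) = p ^ (f * k) * p ^ f := by rw [e2, pow_add]
    congr 1
    rw [e3]; ring
  -- orbit and stabiliser
  let _ : MulAction K {u : V // Q u = Q v} :=
    { smul := fun g u => ⟨(g : V ≃ₗ[F] V) u.1, by rw [h.iso g.1 g.2]; exact u.2⟩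
      one_smul := fun u => rfl
      mul_smul := fun a b u => rfl }
  let v₀ : {u : V // Q u = Q v} := ⟨v, rfl⟩
  have hK : Nat.card K ≤ Nat.card {u : V // Q u = Q v} * Nat.card (stb K v) := by
    have h2 := Nat.card_congr (MulAction.orbitEquivQuotientStabilizer K v₀)
    have h3 := Subgroup.card_eq_card_quotient_mul_card_subgroup (MulAction.stabilizer K v₀)
    have h4 : Nat.card (MulAction.stabilizer K v₀) = Nat.card (stb K v) :=
      Nat.card_congr
        { toFun := fun g => ⟨g.1.1, g.1.2, congrArg Subtype.val g.2⟩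
          invFun := fun g => ⟨⟨g.1, g.2.1⟩, Subtype.ext g.2.2⟩
          left_inv := fun _ => rfl
          right_inv := fun _ => rfl }
    rw [h3, h4, ← h2]
    exact Nat.mul_le_mul_right _ (Nat.card_le_card_of_injective _ Subtype.val_injective)
  have hc := h.card_ge
  rw [hN] at hK
  have hpm : 1 < p ^ (f * m) := Nat.one_lt_pow (by
    have := h.hf
    have : 1 * 1 ≤ f * m := Nat.mul_le_mul h.hf (by omega)
    omega) hp1
  have hpos : 0 < p ^ (f * (m - 1)) * (p ^ (f * m) - 1) := Nat.mul_pos (Nat.pow_pos h.hp.pos) (by omega)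
  refine Nat.le_of_mul_le_mul_left ?_ hpos
  set C := 2 * (p ^ f + 1) * ((if p = 2 then 2 else 8) * f) with hC
  calc p ^ (f * (m - 1)) * (p ^ (f * m) - 1) * (p ^ (f * (m - 1)) * (p ^ (f * (m - 1)) - 1)) =
      p ^ (f * (2 * m - 2)) * (p ^ (f * m) - 1) * (p ^ (f * (m - 1)) - 1) := by
        have e1 : f * (2 * m - 2) = f * (m - 1) + f * (m - 1) := by
          have : 2 * m - 2 = (m - 1) + (m - 1) := by omega
          rw [this]; ring
        rw [e1, pow_add]; ring
    _ ≤ C * Nat.card K := hc
    _ ≤ C * (p ^ (f * (m - 1)) * (p ^ (f * m) - 1) * Nat.card (stb K v)) := Nat.mul_le_mul_left _ hK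
    _ = _ := by ring

end

end Cfsg.Agent.H50.D2
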